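import Cfsg.Agent.Lib.Spor.HN.SubIndex.Part0
import Cfsg.Agent.Lib.Spor.HN.SubIndex.Part1
import Cfsg.Agent.Lib.Spor.HN.SubIndex.Part2
import Cfsg.Agent.Lib.Spor.HN.SubIndex.Part3
import Cfsg.Agent.Lib.Spor.HN.SubIndex.Part4
import Cfsg.Agent.Lib.Spor.HN.SubIndex.Part5
import Cfsg.Agent.Lib.Spor.HN.SubIndex.Part6
import Cfsg.Agent.Lib.Spor.HN.SubIndex.Part7

/-!
The index of ⟨x, y³⟩ in ⟨x, y⟩ modulo the central word: the assembled checks.
-/

set_option autoImplicit false

namespace CfsgLib.Spor.HN.SubIndex

open CfsgLib.Spor.TC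

theorem steps_ok : cert.SStepsOK 0 25232 :=
  (((((((((steps0.append _ steps3347).append _ steps6500).append _ steps9514).append _ steps12372).append _ steps15187).append _ steps17867).append _ steps20348).append _ steps22810).append _ steps24995)

theorem rows_ok : cert.SRowsOK 25232 10500 0 10500 :=
  ((((rows0.append _ rows2500).append _ rows5000).append _ rows7500).append _ rows10000)

theorem row_zero : cert.rowNode 0 = 0 := by decide +kernel

end CfsgLib.Spor.HN.SubIndex
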